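import Mathlib
import Cfsg.Agent.Lib.RegNilp.Basic
import Cfsg.Agent.Lib.RegNilp.Matrix

/-!
# The symplectic adjoint and the commutant of a regular skew-adjoint nilpotent matrix
-/

set_option autoImplicit false
set_option linter.style.haveILetI false

namespace Cfsg.Agent.RegSymp

open Polynomial

abbrev Mat (m : ℕ) (F : Type*) := Matrix (Fin m ⊕ Fin m) (Fin m ⊕ Fin m) F

variable {m : ℕ} {F : Type*} [Field F]

/-- The adjoint for the symplectic form. -/
def adj (A : Mat m F) : Mat m F :=
  Matrix.J (Fin m) F * A.transpose * (-Matrix.J (Fin m) F)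

theorem J_mul_neg_J : Matrix.J (Fin m) F * (-Matrix.J (Fin m) F) = 1 := by
  rw [mul_neg, Matrix.J_squared, neg_neg]

theorem neg_J_mul_J : (-Matrix.J (Fin m) F) * Matrix.J (Fin m) F = 1 := by
  rw [neg_mul, Matrix.J_squared, neg_neg]

theorem adj_mul (A B : Mat m F) : adj (A * B) = adj B * adj A := by
  rw [adj, adj, adj, Matrix.transpose_mul]
  simp only [mul_assoc]
  rw [← mul_assoc (-Matrix.J (Fin m) F) (Matrix.J (Fin m) F), neg_J_mul_J, one_mul]

theorem adj_one : adj (1 : Mat m F) = 1 := by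
  rw [adj, Matrix.transpose_one, mul_one, J_mul_neg_J]

theorem adj_add (A B : Mat m F) : adj (A + B) = adj A + adj B := by
  rw [adj, Matrix.transpose_add, mul_add, add_mul]; rfl

theorem adj_smul (c : F) (A : Mat m F) : adj (c • A) = c • adj A := by
  rw [adj, Matrix.transpose_smul, Matrix.mul_smul, Matrix.smul_mul]; rfl

theorem adj_zero : adj (0 : Mat m F) = 0 := by
  simp [adj]

theorem adj_neg (A : Mat m F) : adj (-A) = -adj A := by
  simp [adj]

theorem adj_sub (A B : Mat m F) : adj (A - B) = adj A - adj B := by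
  rw [sub_eq_add_neg, adj_add, adj_neg, ← sub_eq_add_neg]

theorem adj_adj (A : Mat m F) : adj (adj A) = A := by
  rw [adj, adj, Matrix.transpose_mul, Matrix.transpose_mul, Matrix.transpose_transpose,
    Matrix.transpose_neg, Matrix.J_transpose, neg_neg]
  simp only [← mul_assoc]
  rw [Matrix.J_squared, neg_one_mul]
  simp only [mul_assoc, neg_mul, mul_neg, neg_neg]
  rw [Matrix.J_squared]
  simp

theorem adj_commute {A B : Mat m F} (h : Commute A B) : Commute (adj A) (adj B) := by
  rw [Commute, SemiconjBy, ← adj_mul, ← adj_mul, h.eq]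

theorem mem_sp_iff {A : Mat m F} : A ∈ Matrix.symplecticGroup (Fin m) F ↔ A * adj A = 1 := by
  rw [SymplecticGroup.mem_iff, adj]
  constructor
  · intro h
    rw [← mul_assoc, ← mul_assoc, h, J_mul_neg_J]
  · intro h
    have h2 := congrArg (· * Matrix.J (Fin m) F) h
    simp only [one_mul, mul_assoc, neg_J_mul_J, mul_one] at h2
    rw [mul_assoc]
    exact h2

/-- `t` is a regular skew-adjoint nilpotent. -/
structure Reg (t : Mat m F) : Prop where
  pow_top : t ^ (2 * m) = 0
  pow_pred : t ^ (2 * m - 1) ≠ 0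
  skew : adj t = -t

variable {t : Mat m F}

theorem Reg.pos (ht : Reg t) : 1 ≤ m := by
  rcases Nat.eq_zero_or_pos m with rfl | h
  · exact absurd ((show t ^ (2 * 0 - 1) = t ^ (2 * 0) from rfl).trans ht.pow_top) ht.pow_pred
  · exact h

theorem Reg.nilpotent (ht : Reg t) : IsNilpotent t := ⟨_, ht.pow_top⟩

/-- Residue of an element of the commutant. -/
def Res (t x : Mat m F) (a : F) : Prop := ∃ r, Commute r t ∧ x = a • (1 : Mat m F) + t * r

theorem res_one : Res t 1 1 := ⟨0, Commute.zero_left _, by simp⟩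

theorem res_scalar (c : F) : Res t (c • (1 : Mat m F)) c := ⟨0, Commute.zero_left _, by simp⟩

theorem res_mul_t {r : Mat m F} (hr : Commute r t) : Res t (t * r) 0 := ⟨r, hr, by simp⟩

theorem res_add {x y : Mat m F} {a b : F} (hx : Res t x a) (hy : Res t y b) :
    Res t (x + y) (a + b) := by
  obtain ⟨r, hr, rfl⟩ := hx
  obtain ⟨s, hs, rfl⟩ := hy
  exact ⟨r + s, hr.add_left hs, by rw [add_smul, mul_add]; abel⟩

theorem res_smul {x : Mat m F} {a : F} (c : F) (hx : Res t x a) : Res t (c • x) (c * a) := by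
  obtain ⟨r, hr, rfl⟩ := hx
  exact ⟨c • r, hr.smul_left c, by rw [smul_add, smul_smul, Matrix.mul_smul]⟩

theorem res_neg {x : Mat m F} {a : F} (hx : Res t x a) : Res t (-x) (-a) := by
  simpa using res_smul (-1) hx

theorem res_mul {x y : Mat m F} {a b : F} (hx : Res t x a) (hy : Res t y b) :
    Res t (x * y) (a * b) := by
  obtain ⟨r, hr, rfl⟩ := hx
  obtain ⟨s, hs, rfl⟩ := hy
  refine ⟨a • s + b • r + r * (t * s),
    ((hs.smul_left a).add_left (hr.smul_left b)).add_left
      (hr.mul_left ((Commute.refl t).mul_left hs)), ?_⟩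
  simp only [mul_add, add_mul, Matrix.smul_mul, Matrix.mul_smul, one_mul, mul_one, mul_assoc,
    smul_smul, smul_add]
  rw [mul_comm b a]
  abel

theorem res_pow {x : Mat m F} {a : F} (hx : Res t x a) (k : ℕ) : Res t (x ^ k) (a ^ k) := by
  induction k with
  | zero => rw [pow_zero, pow_zero]; exact res_one
  | succ k ih => rw [pow_succ, pow_succ]; exact res_mul ih hx

theorem res_adj (ht : Reg t) {x : Mat m F} {a : F} (hx : Res t x a) : Res t (adj x) a := by
  obtain ⟨r, hr, rfl⟩ := hx
  have hc : Commute (adj r) t := by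
    have h := adj_commute hr
    rw [ht.skew] at h
    simpa using h.neg_right
  refine ⟨-adj r, hc.neg_left, ?_⟩
  rw [adj_add, adj_smul, adj_one, adj_mul, ht.skew, mul_neg, mul_neg, hc.eq]

theorem commute_of_res {x : Mat m F} {a : F} (hx : Res t x a) : Commute x t := by
  obtain ⟨r, hr, rfl⟩ := hx
  exact ((Commute.one_left t).smul_left a).add_left ((Commute.refl t).mul_left hr)

theorem res_nilpotent (ht : Reg t) {x : Mat m F} (hx : Res t x 0) : IsNilpotent x := by
  obtain ⟨r, hr, rfl⟩ := hx
  refine ⟨2 * m, ?_⟩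
  rw [zero_smul, zero_add, hr.symm.mul_pow, ht.pow_top, zero_mul]

theorem res_isUnit (ht : Reg t) {x : Mat m F} {a : F} (hx : Res t x a) (ha : a ≠ 0) : IsUnit x := by
  obtain ⟨r, hr, rfl⟩ := hx
  have hu : IsUnit (a • (1 : Mat m F)) := by
    rw [← Algebra.algebraMap_eq_smul_one]
    exact (isUnit_iff_ne_zero.2 ha).map _
  exact IsNilpotent.isUnit_add_left_of_commute (res_nilpotent ht (res_mul_t hr)) hu
    ((Commute.one_right _).smul_right a)

theorem res_unique (ht : Reg t) {x : Mat m F} {a b : F} (hx : Res t x a) (hy : Res t x b) :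
    a = b := by
  haveI : Nonempty (Fin m ⊕ Fin m) := ⟨Sum.inl ⟨0, ht.pos⟩⟩
  by_contra hne
  have h0 := res_add hx (res_neg hy)
  rw [add_neg_cancel, ← sub_eq_add_neg] at h0
  exact (res_isUnit ht h0 (sub_ne_zero.2 hne)).ne_zero rfl

theorem exists_poly (ht : Reg t) {x : Mat m F} (hx : Commute x t) :
    ∃ P : F[X], x = aeval t P := by
  have hd : Module.finrank F (Fin m ⊕ Fin m → F) = 2 * m := by
    rw [Module.finrank_fintype_fun_eq_card, Fintype.card_sum, Fintype.card_fin]; omega
  obtain ⟨v, hv⟩ : ∃ v, (t ^ (2 * m - 1)).mulVec v ≠ 0 := by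
    by_contra hcon
    push Not at hcon
    exact ht.pow_pred (Matrix.ext_of_mulVec_single fun i => by rw [hcon, Matrix.zero_mulVec])
  obtain ⟨P, hP⟩ := RegNilp.eq_aeval_of_commute (N := Matrix.toLinAlgEquiv' t) (v := v)
    (by rw [hd]; have := ht.pos; omega) (ht.nilpotent.map _)
    (by rw [hd, RegNilp.toLin_pow_apply]; exact hv)
    (X := Matrix.toLinAlgEquiv' x) (hx.map _)
  refine ⟨P, Matrix.toLinAlgEquiv'.injective ?_⟩
  rw [hP]
  exact (Polynomial.aeval_algHom_apply (Matrix.toLinAlgEquiv' : Mat m F ≃ₐ[F] _).toAlgHom t P)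

theorem exists_res (ht : Reg t) {x : Mat m F} (hx : Commute x t) : ∃ a, Res t x a := by
  obtain ⟨P, rfl⟩ := exists_poly ht hx
  refine ⟨P.eval 0, aeval t (P.divX), ?_, ?_⟩
  · have := (Commute.all P.divX X).map (aeval t : F[X] →ₐ[F] Mat m F)
    rwa [aeval_X] at this
  · conv_lhs => rw [← X_mul_divX_add P]
    rw [map_add, map_mul, aeval_X, aeval_C, Algebra.algebraMap_eq_smul_one,
      coeff_zero_eq_eval_zero, add_comm]

/-- Linear combinations of the powers of `t`. -/
noncomputable def comb (t : Mat m F) (d : Fin (2 * m) → F) : Mat m F :=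
  ∑ j, d j • t ^ (j : ℕ)

theorem commute_comb (d : Fin (2 * m) → F) : Commute (comb t d) t :=
  Commute.sum_left _ _ _ fun j _ => ((Commute.refl t).pow_left _).smul_left _

theorem comb_eq_zero (ht : Reg t) {d : Fin (2 * m) → F} (h : comb t d = 0) : d = 0 := by
  have key : ∀ k : ℕ, ∀ j : Fin (2 * m), (j : ℕ) = k → d j = 0 := by
    intro k
    induction k using Nat.strong_induction_on with
    | _ k ih =>
      intro j hj
      have h1 := congrArg (t ^ (2 * m - 1 - (j : ℕ)) * ·) h
      simp only [comb, mul_zero, Finset.mul_sum, Matrix.mul_smul, ← pow_add] at h1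
      rw [Finset.sum_eq_single j] at h1
      · rw [show 2 * m - 1 - (j : ℕ) + (j : ℕ) = 2 * m - 1 by omega] at h1
        exact (smul_eq_zero.1 h1).resolve_right ht.pow_pred
      · intro i _ hij
        rcases lt_or_gt_of_ne (fun hh => hij (Fin.ext hh)) with hlt | hgt
        · rw [ih i (by omega) i rfl, zero_smul]
        · obtain ⟨c, hc⟩ : ∃ c, 2 * m - 1 - (j : ℕ) + (i : ℕ) = 2 * m + c :=
            ⟨(i : ℕ) - (j : ℕ) - 1, by omega⟩
          rw [hc, pow_add, ht.pow_top, zero_mul, smul_zero]
      · exact fun hj => absurd (Finset.mem_univ j) hj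
  exact funext fun j => key _ j rfl

theorem comb_injective (ht : Reg t) : Function.Injective (comb t : (Fin (2 * m) → F) → Mat m F) := by
  intro d e h
  rw [← sub_eq_zero]
  apply comb_eq_zero ht
  simp only [comb, Pi.sub_apply, sub_smul, Finset.sum_sub_distrib]
  exact sub_eq_zero.2 h

theorem exists_comb (ht : Reg t) {x : Mat m F} (hx : Commute x t) : ∃ d, x = comb t d := by
  obtain ⟨P, rfl⟩ := exists_poly ht hx
  refine ⟨fun j => P.coeff j, ?_⟩
  rw [aeval_eq_sum_range' (n := max (P.natDegree + 1) (2 * m)) (by omega), comb,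
    Fin.sum_univ_eq_sum_range (fun i => P.coeff i • t ^ i) (2 * m)]
  refine (Finset.sum_subset (fun i hi => ?_) fun i hi hni => ?_).symm
  · rw [Finset.mem_range] at hi ⊢; omega
  · rw [Finset.mem_range] at hi hni
    obtain ⟨c, hc⟩ : ∃ c, i = 2 * m + c := ⟨i - 2 * m, by omega⟩
    rw [hc, pow_add, ht.pow_top, zero_mul, smul_zero]

theorem adj_pow (ht : Reg t) (k : ℕ) : adj (t ^ k) = (-1 : F) ^ k • t ^ k := by
  induction k with
  | zero => simp [adj_one]
  | succ k ih =>
    rw [pow_succ' t k, adj_mul, ih, ht.skew, pow_succ, mul_smul, Matrix.smul_mul, mul_neg,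
      ← pow_succ t k, ← pow_succ' t k, neg_one_smul]

theorem adj_comb (ht : Reg t) (d : Fin (2 * m) → F) :
    adj (comb t d) = comb t fun j => (-1 : F) ^ (j : ℕ) * d j := by
  let A : Mat m F →+ Mat m F := ⟨⟨adj, adj_zero⟩, adj_add⟩
  show A (comb t d) = _
  rw [comb, map_sum, comb]
  refine Finset.sum_congr rfl fun j _ => ?_
  show adj (d j • t ^ (j : ℕ)) = _
  rw [adj_smul, adj_pow ht, smul_smul, mul_comm]

/-- There are `q^m` skew elements in the commutant. -/
theorem card_skew [Finite F] (ht : Reg t) (h2 : (2 : F) ≠ 0) :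
    Nat.card {y : Mat m F // Commute y t ∧ adj y = -y} = Nat.card F ^ m := by
  let d : (Fin m → F) → Fin (2 * m) → F := fun c j =>
    if (j : ℕ) % 2 = 1 then c ⟨(j : ℕ) / 2, by omega⟩ else 0
  have hd : ∀ c, adj (comb t (d c)) = -comb t (d c) := fun c => by
    rw [adj_comb ht]
    have : (fun j : Fin (2 * m) => (-1 : F) ^ (j : ℕ) * d c j) = fun j => -d c j := by
      funext j
      by_cases hj : (j : ℕ) % 2 = 1
      · rw [(Nat.odd_iff.2 hj).neg_one_pow, neg_one_mul]
      · simp [d, hj]
    rw [this]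
    simp [comb, Finset.sum_neg_distrib]
  let f : (Fin m → F) → {y : Mat m F // Commute y t ∧ adj y = -y} := fun c =>
    ⟨comb t (d c), commute_comb _, hd c⟩
  have hf : Function.Bijective f := by
    constructor
    · intro c c' h
      have h1 := comb_injective ht (congrArg Subtype.val h)
      funext i
      have := congrFun h1 ⟨2 * (i : ℕ) + 1, by omega⟩
      simp only [d, show (2 * (i : ℕ) + 1) % 2 = 1 by omega, if_true] at this
      simpa [show (2 * (i : ℕ) + 1) / 2 = (i : ℕ) by omega] using this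
    · rintro ⟨y, hy, hys⟩
      obtain ⟨e, rfl⟩ := exists_comb ht hy
      refine ⟨fun i => e ⟨2 * (i : ℕ) + 1, by omega⟩, Subtype.ext ?_⟩
      show comb t _ = comb t e
      congr 1
      funext j
      by_cases hj : (j : ℕ) % 2 = 1
      · simp only [d, if_pos hj]
        congr 1
        exact Fin.ext (by simp only; omega)
      · simp only [d, if_neg hj]
        have h1 : (fun j : Fin (2 * m) => (-1 : F) ^ (j : ℕ) * e j) = -e := by
          apply comb_injective ht
          rw [← adj_comb ht, hys]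
          simp [comb, Finset.sum_neg_distrib]
        have h3 := congrFun h1 j
        simp only [Pi.neg_apply, (Nat.even_iff.2 (by omega : (j : ℕ) % 2 = 0)).neg_one_pow,
          one_mul] at h3
        have : (2 : F) * e j = 0 := by linear_combination h3
        exact ((mul_eq_zero.1 this).resolve_left h2).symm
  rw [← Nat.card_congr (Equiv.ofBijective f hf), Nat.card_fun, Nat.card_fin]

end Cfsg.Agent.RegSymp
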