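import Cfsg.Agent.Lib.RegSymp.Basic

/-!
# Cayley transform; the centraliser of a regular unipotent element of `Sp_{2m}`
-/

set_option autoImplicit false
set_option linter.style.haveILetI false

namespace Cfsg.Agent.RegSymp

variable {m : ℕ} {F : Type*} [Field F]

theorem skew_of_isometry {z w : Mat m F} (hz : z * adj z = 1) (hu : IsUnit (z + 1))
    (hw : w * (z + 1) = z - 1) (hc : Commute w z) : adj w = -w := by
  have h1 := congrArg adj hw
  rw [adj_mul, adj_add, adj_one, adj_sub, adj_one] at h1
  have h2 := congrArg (z * ·) h1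
  simp only [← mul_assoc, mul_add, mul_sub, hz, mul_one] at h2
  rw [add_comm 1 z] at h2
  refine hu.mul_left_cancel (h2.trans ?_)
  rw [mul_neg, ← ((hc.add_right (Commute.one_right w))).eq, hw, neg_sub]

theorem isometry_of_skew {z y : Mat m F} (hy : adj y = -y) (h1 : IsUnit (1 + y)) (h2 : IsUnit (1 - y))
    (hz : z * (1 - y) = 1 + y) (hc : Commute z y) : z * adj z = 1 := by
  have h3 := congrArg adj hz
  rw [adj_mul, adj_sub, adj_add, adj_one, hy, sub_neg_eq_add, ← sub_eq_add_neg] at h3
  refine (h2.mul h1).mul_left_cancel ?_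
  calc (1 - y) * (1 + y) * (z * adj z) = (1 - y) * ((1 + y) * z) * adj z := by simp only [mul_assoc]
    _ = (1 - y) * (z * (1 + y)) * adj z := by rw [((Commute.one_right z).add_right hc).eq]
    _ = ((1 - y) * z) * ((1 + y) * adj z) := by simp only [mul_assoc]
    _ = (z * (1 - y)) * (1 - y) := by rw [((Commute.one_right z).sub_right hc).eq, h3]
    _ = (1 - y) * (1 + y) * 1 := by
      rw [hz, mul_one]
      exact (((Commute.one_right _).sub_right ((Commute.one_left y).add_left (Commute.refl y))).eq)

theorem two_smul_one (x : Mat m F) : (2 : F) • x = x + x := two_smul F x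

/-- `(1 + y)/(1 - y)` for nilpotent `y`. -/
noncomputable def cay (y : Mat m F) : Mat m F := (1 + y) * Ring.inverse (1 - y)

theorem cay_mul {y : Mat m F} (hy : IsNilpotent y) : cay y * (1 - y) = 1 + y := by
  rw [cay, mul_assoc, Ring.inverse_mul_cancel _ hy.isUnit_one_sub, mul_one]

theorem commute_cay {y s : Mat m F} (hy : IsNilpotent y) (h : Commute y s) : Commute (cay y) s := by
  refine ((Commute.one_left s).add_left h).mul_left ?_
  have hu := hy.isUnit_one_sub
  rw [← hu.unit_spec, Ring.inverse_unit]
  exact Commute.units_inv_left (by rw [hu.unit_spec]; exact (Commute.one_left s).sub_left h)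

variable {t : Mat m F}

theorem skew_res (ht : Reg t) (h2 : (2 : F) ≠ 0) {y : Mat m F} (hc : Commute y t) (hy : adj y = -y) :
    Res t y 0 := by
  obtain ⟨a, ha⟩ := exists_res ht hc
  have h1 := res_adj ht ha
  rw [hy] at h1
  have h3 := res_unique ht h1 (res_neg ha)
  have h4 : (2 : F) * a = 0 := by linear_combination h3
  rwa [(mul_eq_zero.1 h4).resolve_left h2] at ha

theorem res_cay (ht : Reg t) {y : Mat m F} (hy : Res t y 0) : Res t (cay y) 1 := by
  have hn := res_nilpotent ht hy
  obtain ⟨a, ha⟩ := exists_res ht (commute_cay hn (commute_of_res hy))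
  have h := res_mul ha (res_add (res_one (t := t)) (res_neg hy))
  rw [← sub_eq_add_neg, cay_mul hn] at h
  have h' := res_add (res_one (t := t)) hy
  have heq := res_unique ht h h'
  simp at heq
  rwa [heq] at ha

/-- The number of isometries commuting with a regular skew nilpotent. -/
theorem card_isometries [Finite F] (ht : Reg t) (h2 : (2 : F) ≠ 0) :
    Nat.card {x : Mat m F // Commute x t ∧ x * adj x = 1} = 2 * Nat.card F ^ m := by
  haveI : Nonempty (Fin m ⊕ Fin m) := ⟨Sum.inl ⟨0, ht.pos⟩⟩
  have hsq : Nat.card {a : F // a * a = 1} = 2 := by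
    rw [Nat.card_eq_two_iff]
    refine ⟨⟨1, one_mul 1⟩, ⟨-1, by norm_num⟩, fun h => ?_, ?_⟩
    · have h' : (1 : F) = -1 := congrArg Subtype.val h
      exact h2 (by linear_combination h')
    · rw [Set.eq_univ_iff_forall]
      rintro ⟨a, ha⟩
      rcases mul_self_eq_one_iff.1 ha with rfl | rfl <;> simp
  let f : {a : F // a * a = 1} × {y : Mat m F // Commute y t ∧ adj y = -y} →
      {x : Mat m F // Commute x t ∧ x * adj x = 1} := fun p =>
    ⟨p.1.1 • cay p.2.1, by
      have hr := skew_res ht h2 p.2.2.1 p.2.2.2
      have hn := res_nilpotent ht hr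
      refine ⟨(commute_cay hn p.2.2.1).smul_left _, ?_⟩
      rw [adj_smul, Matrix.smul_mul, Matrix.mul_smul, smul_smul, p.1.2, one_smul]
      exact isometry_of_skew p.2.2.2 hn.isUnit_one_add hn.isUnit_one_sub (cay_mul hn)
        (commute_cay hn (Commute.refl _))⟩
  have hf : Function.Bijective f := by
    constructor
    · rintro ⟨⟨a, ha⟩, ⟨y, hyc, hys⟩⟩ ⟨⟨b, hb⟩, ⟨y', hyc', hys'⟩⟩ h
      have h' : a • cay y = b • cay y' := congrArg Subtype.val h
      have hr := skew_res ht h2 hyc hys
      have hr' := skew_res ht h2 hyc' hys'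
      have hab : a = b := by
        have e1 := res_smul a (res_cay ht hr)
        rw [h'] at e1
        simpa using res_unique ht e1 (res_smul b (res_cay ht hr'))
      subst hab
      have ha0 : a ≠ 0 := fun h0 => by simp [h0] at ha
      have hcc : cay y = cay y' := smul_right_injective _ ha0 h'
      have hn := res_nilpotent ht hr
      have hn' := res_nilpotent ht hr'
      have hcy : Commute y y' := by
        obtain ⟨P, hP⟩ := exists_poly ht hyc
        obtain ⟨Q, hQ⟩ := exists_poly ht hyc'
        rw [hP, hQ]
        exact (Commute.all P Q).map _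
      have key : (1 + y) * (1 - y') = (1 + y') * (1 - y) := by
        rw [← cay_mul hn, ← cay_mul hn', hcc, mul_assoc, mul_assoc,
          (((Commute.one_left (1 - y')).sub_left
            ((Commute.one_right y).sub_right hcy))).eq]
      have h0 : (2 : F) • (y - y') = 0 := by
        simp only [add_mul, mul_sub, one_mul, mul_one, hcy.eq] at key
        rw [two_smul]
        rw [← sub_eq_zero] at key
        rw [← key]
        abel
      have := (smul_eq_zero.1 h0).resolve_left h2
      exact Prod.ext rfl (Subtype.ext (sub_eq_zero.1 this))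
    · rintro ⟨x, hxc, hxi⟩
      obtain ⟨a, ha⟩ := exists_res ht hxc
      have haa : a * a = 1 := by
        have h := res_mul ha (res_adj ht ha)
        rw [hxi] at h
        exact res_unique ht h res_one
      have hx' : Res t (a • x) 1 := haa ▸ res_smul a ha
      set z := a • x with hz
      have hzi : z * adj z = 1 := by
        rw [hz, adj_smul, Matrix.smul_mul, Matrix.mul_smul, smul_smul, haa, one_smul, hxi]
      have hz1 : Res t (z + 1) 2 := by
        rw [show (2 : F) = 1 + 1 by norm_num]
        exact res_add hx' res_one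
      have hu := res_isUnit ht hz1 h2
      set w := (z - 1) * Ring.inverse (z + 1) with hwdef
      have hw : w * (z + 1) = z - 1 := by rw [hwdef, mul_assoc, Ring.inverse_mul_cancel _ hu, mul_one]
      have hinv : ∀ s, Commute (z + 1) s → Commute (Ring.inverse (z + 1)) s := fun s hs => by
        rw [← hu.unit_spec, Ring.inverse_unit]
        exact Commute.units_inv_left (by rwa [hu.unit_spec])
      have hwt : Commute w t :=
        ((commute_of_res hx').sub_left (Commute.one_left t)).mul_left (hinv t (commute_of_res hz1))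
      have hwz : Commute w z :=
        ((Commute.refl z).sub_left (Commute.one_left z)).mul_left
          (hinv z ((Commute.refl z).add_left (Commute.one_left z)))
      have hws := skew_of_isometry hzi hu hw hwz
      have hn := res_nilpotent ht (skew_res ht h2 hwt hws)
      refine ⟨(⟨a, haa⟩, ⟨w, hwt, hws⟩), Subtype.ext ?_⟩
      show a • cay w = x
      have hcz : cay w = z := by
        refine hn.isUnit_one_sub.mul_right_cancel ?_
        rw [cay_mul hn, mul_sub, mul_one, ← hwz.eq]
        rw [mul_add, mul_one] at hw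
        rw [eq_sub_iff_add_eq] at hw ⊢
        exact (show 1 + w + w * z = w * z + w + 1 by abel).trans hw
      rw [hcz, hz, smul_smul, haa, one_smul]
  rw [← Nat.card_congr (Equiv.ofBijective f hf), Nat.card_prod, hsq, card_skew ht h2]

/-- The regular skew nilpotent belonging to a regular unipotent isometry. -/
theorem exists_reg (hm : 1 ≤ m) (h2 : (2 : F) ≠ 0) {u : Mat m F} (hu : u * adj u = 1)
    (hnil : (u - 1) ^ (2 * m) = 0) (hreg : (u - 1).rank = 2 * m - 1) :
    ∃ t : Mat m F, Reg t ∧ ∀ g, Commute g u ↔ Commute g t := by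
  set N := u - 1 with hN
  have hu1 : u + 1 = (2 : F) • 1 + N := by rw [hN, two_smul]; abel
  have hnN : IsNilpotent N := ⟨_, hnil⟩
  have hunit : IsUnit (u + 1) := by
    rw [hu1]
    refine IsNilpotent.isUnit_add_left_of_commute hnN ?_ ((Commute.one_right N).smul_right _)
    rw [← Algebra.algebraMap_eq_smul_one]
    exact (isUnit_iff_ne_zero.2 h2).map _
  set t := N * Ring.inverse (u + 1) with ht
  have hinv : ∀ s, Commute (u + 1) s → Commute (Ring.inverse (u + 1)) s := fun s hs => by
    rw [← hunit.unit_spec, Ring.inverse_unit]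
    exact Commute.units_inv_left (by rwa [hunit.unit_spec])
  have hNu : Commute (u + 1) N := by
    rw [hu1]; exact ((Commute.one_left N).smul_left _).add_left (Commute.refl N)
  have hcN : Commute N (Ring.inverse (u + 1)) := (hinv N hNu).symm
  have htu : t * (u + 1) = u - 1 := by rw [ht, mul_assoc, Ring.inverse_mul_cancel _ hunit, mul_one]
  have hcu : Commute t u :=
    ((Commute.refl u).sub_left (Commute.one_left u)).mul_left
      (hinv u ((Commute.refl u).add_left (Commute.one_left u)))
  have hpow : ∀ k, t ^ k = N ^ k * Ring.inverse (u + 1) ^ k := fun k => hcN.mul_pow k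
  have hd : Module.finrank F (Fin m ⊕ Fin m → F) = 2 * m := by
    rw [Module.finrank_fintype_fun_eq_card, Fintype.card_sum, Fintype.card_fin]; omega
  have hNpred : N ^ (2 * m - 1) ≠ 0 := by
    have hcard : 2 * m = Fintype.card (Fin m ⊕ Fin m) := by
      rw [Fintype.card_sum, Fintype.card_fin]; omega
    obtain ⟨v, hv⟩ := RegNilp.exists_cyclic (RegNilp.toLin_pow_eq_zero hcard hnil)
      (RegNilp.finrank_range_toLin hcard hreg) (by omega)
    rw [hd, RegNilp.toLin_pow_apply] at hv
    intro h
    exact hv (by rw [h, Matrix.zero_mulVec])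
  have hinvu : IsUnit (Ring.inverse (u + 1)) := by
    rw [← hunit.unit_spec, Ring.inverse_unit]; exact Units.isUnit _
  refine ⟨t, ⟨by rw [hpow, hnil, zero_mul], fun h => hNpred ?_,
    skew_of_isometry hu hunit htu hcu⟩, fun g => ⟨fun hg => ?_, fun hg => ?_⟩⟩
  · rw [hpow] at h
    exact (hinvu.pow _).mul_left_eq_zero.1 h
  · exact (hg.sub_right (Commute.one_right g)).mul_right
      (hinv g (hg.symm.add_left (Commute.one_left g))).symm
  · have h1 : u * (1 - t) = 1 + t := by
      rw [mul_sub, mul_one, ← hcu.eq]
      rw [mul_add, mul_one] at htu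
      rw [eq_sub_iff_add_eq] at htu
      rw [sub_eq_iff_eq_add]
      exact htu.symm.trans (by abel)
    have h1t : IsUnit (1 - t) := IsNilpotent.isUnit_one_sub ⟨2 * m, by rw [hpow, hnil, zero_mul]⟩
    have hueq : u = (1 + t) * Ring.inverse (1 - t) := by
      rw [← h1, mul_assoc, Ring.mul_inverse_cancel _ h1t, mul_one]
    rw [hueq]
    refine ((Commute.one_right g).add_right hg).mul_right ?_
    rw [← h1t.unit_spec, Ring.inverse_unit]
    exact (Commute.units_inv_left (by
      rw [h1t.unit_spec]; exact ((Commute.one_right g).sub_right hg).symm)).symm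

end Cfsg.Agent.RegSymp
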