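import Cfsg.Agent.Lib.RegSymp.Cayley

/-!
# The standard regular skew nilpotent of `Sp_{2m}` and a similitude
-/

set_option autoImplicit false
set_option linter.style.haveILetI false

namespace Cfsg.Agent.RegSymp

open Matrix

variable {m : ℕ} {F : Type*} [Field F]

/-- `e_i ↦ e_{i+1}`. -/
def shiftA (m : ℕ) (F : Type*) [Field F] : Matrix (Fin m) (Fin m) F :=
  Matrix.of fun r c => if (r : ℕ) = (c : ℕ) + 1 then 1 else 0

/-- `e_{m-1} ↦ f_{m-1}`. -/
def cornerC (m : ℕ) (F : Type*) [Field F] : Matrix (Fin m) (Fin m) F :=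
  Matrix.of fun r c => if (r : ℕ) + 1 = m ∧ (c : ℕ) + 1 = m then 1 else 0

/-- A regular skew nilpotent. -/
def stdT (m : ℕ) (F : Type*) [Field F] : Mat m F :=
  Matrix.fromBlocks (shiftA m F) 0 (cornerC m F) (-(shiftA m F)ᵀ)

theorem adj_fromBlocks (A B C D : Matrix (Fin m) (Fin m) F) :
    adj (Matrix.fromBlocks A B C D) = Matrix.fromBlocks Dᵀ (-Bᵀ) (-Cᵀ) Aᵀ := by
  rw [adj, Matrix.J, Matrix.fromBlocks_transpose, Matrix.fromBlocks_neg,
    Matrix.fromBlocks_multiply, Matrix.fromBlocks_multiply]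
  simp

theorem adj_stdT : adj (stdT m F) = -stdT m F := by
  rw [stdT, adj_fromBlocks, Matrix.fromBlocks_neg]
  congr 1 <;> (try simp)
  ext r c
  simp only [Matrix.transpose_apply, cornerC, Matrix.of_apply, and_comm]

theorem stdT_inl (i : Fin m) : stdT m F *ᵥ Pi.single (Sum.inl i) 1 =
    if h : (i : ℕ) + 1 < m then Pi.single (Sum.inl ⟨(i : ℕ) + 1, h⟩) 1
    else Pi.single (Sum.inr i) 1 := by
  rw [Matrix.mulVec_single_one]
  funext k
  have := i.isLt
  rcases k with k | k <;> split_ifs with h <;>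
    simp [stdT, shiftA, cornerC, Matrix.fromBlocks, Pi.single_apply, Fin.ext_iff] <;>
    first | omega | (intro _; omega) | (split_ifs <;> first | rfl | omega)

theorem stdT_inr (j : Fin m) : stdT m F *ᵥ Pi.single (Sum.inr j) 1 =
    if h : 0 < (j : ℕ) then -Pi.single (Sum.inr ⟨(j : ℕ) - 1, by omega⟩) 1 else 0 := by
  rw [Matrix.mulVec_single_one]
  funext k
  rcases k with k | k
  · split_ifs with h <;> simp [stdT, Matrix.fromBlocks]
  · split_ifs with h
    · simp only [stdT, shiftA, Matrix.fromBlocks, Matrix.col_apply, Matrix.of_apply,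
        Sum.elim_inr, Matrix.neg_apply, Matrix.transpose_apply, Pi.neg_apply, Pi.single_apply,
        Sum.inr.injEq, Fin.ext_iff]
      congr 1
      split_ifs <;> first | rfl | omega
    · simp only [stdT, shiftA, Matrix.fromBlocks, Matrix.col_apply, Matrix.of_apply,
        Sum.elim_inr, Matrix.neg_apply, Matrix.transpose_apply, Pi.zero_apply]
      rw [if_neg (by omega), neg_zero]

theorem pow_inl (hm : 1 ≤ m) : ∀ i : ℕ, ∀ h : i < m,
    (stdT m F ^ i) *ᵥ Pi.single (Sum.inl ⟨0, hm⟩) 1 = Pi.single (Sum.inl ⟨i, h⟩) 1 := by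
  intro i
  induction i with
  | zero => intro h; rw [pow_zero, Matrix.one_mulVec]
  | succ i ih =>
    intro h
    rw [pow_succ', ← Matrix.mulVec_mulVec, ih (by omega), stdT_inl]
    exact dif_pos h

theorem pow_inr (hm : 1 ≤ m) : ∀ j : ℕ, j < m →
    (stdT m F ^ (m + j)) *ᵥ Pi.single (Sum.inl ⟨0, hm⟩) 1 =
      (-1 : F) ^ j • Pi.single (Sum.inr ⟨m - 1 - j, by omega⟩) 1 := by
  intro j
  induction j with
  | zero =>
    intro _
    rw [show m + 0 = (m - 1) + 1 by omega, pow_succ', ← Matrix.mulVec_mulVec, pow_inl hm (m - 1)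
      (by omega), stdT_inl, dif_neg (by simp only; omega), pow_zero, one_smul]
    rfl
  | succ j ih =>
    intro h
    rw [show m + (j + 1) = (m + j) + 1 by omega, pow_succ', ← Matrix.mulVec_mulVec, ih (by omega),
      Matrix.mulVec_smul, stdT_inr, dif_pos (by simp only; omega), pow_succ, mul_smul, neg_one_smul]
    congr 4

theorem reg_stdT (hm : 1 ≤ m) : Reg (stdT m F) := by
  have htop : (stdT m F ^ (2 * m)) *ᵥ Pi.single (Sum.inl ⟨0, hm⟩) 1 = 0 := by
    rw [show 2 * m = (m + (m - 1)) + 1 by omega, pow_succ', ← Matrix.mulVec_mulVec,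
      pow_inr hm (m - 1) (by omega), Matrix.mulVec_smul, stdT_inr, dif_neg (by simp only; omega),
      smul_zero]
  have hk : ∀ k, (stdT m F ^ (2 * m)) *ᵥ ((stdT m F ^ k) *ᵥ Pi.single (Sum.inl ⟨0, hm⟩) 1) = 0 := by
    intro k
    rw [Matrix.mulVec_mulVec, ← pow_add, add_comm, pow_add, ← Matrix.mulVec_mulVec, htop,
      Matrix.mulVec_zero]
  refine ⟨Matrix.ext_of_mulVec_single fun i => ?_, fun h => ?_, adj_stdT⟩
  · rw [Matrix.zero_mulVec]
    rcases i with i | j
    · have h := hk i
      rwa [pow_inl hm i i.isLt] at h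
    · have h := hk (m + (m - 1 - (j : ℕ)))
      rw [pow_inr hm _ (by omega), Matrix.mulVec_smul] at h
      have h' := (smul_eq_zero.1 h).resolve_left (pow_ne_zero _ (by norm_num))
      rwa [show (⟨m - 1 - (m - 1 - (j : ℕ)), by omega⟩ : Fin m) = j from
        Fin.ext (show m - 1 - (m - 1 - (j : ℕ)) = (j : ℕ) by omega)] at h'
  · have h' := pow_inr (F := F) hm (m - 1) (by omega)
    rw [show m + (m - 1) = 2 * m - 1 by omega, h, Matrix.zero_mulVec] at h'
    have := congrFun h'.symm (Sum.inr ⟨m - 1 - (m - 1), by omega⟩)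
    simp at this

/-- A nilpotent of index `n` in dimension `n` has rank `n - 1`. -/
theorem rank_eq_pred (hm : 1 ≤ m) {N : Mat m F} (h0 : N ^ (2 * m) = 0) (h1 : N ^ (2 * m - 1) ≠ 0) :
    N.rank = 2 * m - 1 := by
  set T := Matrix.toLinAlgEquiv' N
  have hd : Module.finrank F (Fin m ⊕ Fin m → F) = 2 * m := by
    rw [Module.finrank_fintype_fun_eq_card, Fintype.card_sum, Fintype.card_fin]; omega
  obtain ⟨v, hv⟩ : ∃ v, (N ^ (2 * m - 1)).mulVec v ≠ 0 := by
    by_contra hcon
    push Not at hcon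
    exact h1 (Matrix.ext_of_mulVec_single fun i => by rw [hcon, Matrix.zero_mulVec])
  have hTn : IsNilpotent T := IsNilpotent.map ⟨_, h0⟩ _
  have hspan := RegNilp.cyclic_span (by rw [hd]; omega) hTn (v := v)
    (by rw [hd, RegNilp.toLin_pow_apply]; exact hv)
  have hsup : (F ∙ v) ⊔ LinearMap.range T = ⊤ := by
    rw [eq_top_iff, ← hspan, Submodule.span_le]
    rintro _ ⟨i, rfl⟩
    rcases Nat.eq_zero_or_pos i with rfl | hi
    · exact Submodule.mem_sup_left (by simp [Submodule.mem_span_singleton_self])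
    · refine Submodule.mem_sup_right ⟨(T ^ (i - 1)) v, ?_⟩
      rw [← Module.End.mul_apply, ← pow_succ', show i - 1 + 1 = i by omega]
  have hge := Submodule.finrank_add_le_finrank_add_finrank (F ∙ v) (LinearMap.range T)
  rw [hsup, finrank_top, hd] at hge
  have hv1 : Module.finrank F (F ∙ v) ≤ 1 := (finrank_span_le_card ({v} : Set _)).trans (by simp)
  have hle : Module.finrank F (LinearMap.range T) < 2 * m := by
    rw [← hd]
    refine Submodule.finrank_lt ?_
    intro htop
    have hsurj := LinearMap.range_eq_top.1 htop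
    have hu : IsUnit T := (Module.End.isUnit_iff _).2
      ⟨LinearMap.injective_iff_surjective.2 hsurj, hsurj⟩
    haveI : Nontrivial (Fin m ⊕ Fin m → F) := Module.nontrivial_of_finrank_pos (R := F) (by omega)
    exact hTn.not_isUnit hu
  have : N.rank = Module.finrank F (LinearMap.range T) := rfl
  omega

end Cfsg.Agent.RegSymp
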